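import Groth.Agent.H56.ResPerf.Step
import Groth.Agent.Lib.ResDescend36.Affine
import Groth.Agent.Lib.CohDelta.IdealMul.HomAR
import Groth.Agent.Lib.Perfect.Top
import Groth.Agent.Lib.Perfect.Triangle
import Groth.Agent.Lib.CohBasics.Affine
import Groth.Agent.Lib.Modules.AffineSections

/-!
Resolving complexes of quasi-coherent modules by finite locally free ones.
-/

set_option autoImplicit false
set_option linter.style.haveILetI false

universe u

open CategoryTheory Limits AlgebraicGeometry TopologicalSpace CochainComplex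
open Groth.Agent.Lib.PCoh.Cone

attribute [local instance] HasDerivedCategory.standard

namespace Groth.Agent.H56.ResPerf

open Groth.Agent.Lib Groth.Agent.Lib.Modules.StalkModule Groth.Agent.Lib.Modules.SubStalk
open Groth.Agent.Lib.Perfect.Basic Groth.Agent.Lib.Perfect.PseudoCoh

variable {X : Scheme.{u}}

/-- A quotient of finite type of a quasi-coherent module is reached by a finite locally free one. -/
theorem exists_lift [CompactSpace X] [QuasiSeparatedSpace X] (hX : PerfAux.HasResolutionProperty X)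
    {Z H : X.Modules} [Z.IsQuasicoherent] [H.IsQuasicoherent] (q : Z ⟶ H) [Epi q] (hH : CohB1.IsFT H) :
    ∃ (L : X.Modules) (v : L ⟶ Z), FlatMod.IsFinLocFree L ∧ Epi (v ≫ q) := by
  classical
  have hfin : ∀ V : X.affineOpens, ∃ (n : ℕ) (t : Fin n → Γ(Z, V.1)),
      Submodule.span Γ(X, V.1) (Set.range fun i => q.app V.1 (t i)) = ⊤ := fun V => by
    haveI := CohBasics.Closure.finite_sections (M := H) ⟨inferInstance, hH⟩ V.2
    obtain ⟨n, s, hs⟩ := Module.Finite.exists_fin (R := Γ(X, V.1)) (M := Γ(H, V.1))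
    choose t ht using fun i => QCoh.Closure.sections_surjective_of_epi q V.2 (s i)
    exact ⟨n, t, by simpa only [ht] using hs⟩
  choose n t ht using hfin
  obtain ⟨s, hs, hcov⟩ := isCompact_and_isOpen_iff_finite_and_eq_biUnion_affineOpens.mp
    (⟨isCompact_univ, isOpen_univ⟩ : IsCompact (Set.univ : Set X) ∧ IsOpen (Set.univ : Set X))
  obtain ⟨S, hS, hmem⟩ := ResDescend36.Affine.exists_family_finset Z hs.toFinset n t
  obtain ⟨L, π, hL, hπ⟩ := hX (subMod S) (isQCoh_subMod hS) (isFT_subMod hS)
  haveI : Epi (ι S ≫ q) := by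
    refine (Modules.Stalk.epi_iff_stalk_surjective (ι S ≫ q)).2 fun x (v : H.presheaf.stalk x) => ?_
    obtain ⟨V, hV, hxV⟩ := Set.mem_iUnion₂.mp (hcov ▸ Set.mem_univ x)
    have htop := CohBasics.Affine.germ_span_eq_top V.2 _ (ht V) hxV
    suffices hr : Submodule.span (X.presheaf.stalk x)
        (H.presheaf.germ V.1 x hxV '' Set.range (fun i => q.app V.1 (t V i))) ≤
          LinearMap.range (stalkMapₗ (ι S ≫ q) x) by
      obtain ⟨w, hw⟩ := hr (htop.ge (Submodule.mem_top (x := v)))
      exact ⟨w, hw⟩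
    rw [Submodule.span_le]
    rintro _ ⟨_, ⟨i, rfl⟩, rfl⟩
    obtain ⟨g, hg⟩ := exists_ι_app (hmem V (hs.mem_toFinset.2 hV) i)
    refine ⟨(subMod S).presheaf.germ V.1 x hxV g, ?_⟩
    exact (stalkMapₗ_germ (ι S ≫ q) hxV g).trans
      (congrArg (fun a => H.presheaf.germ V.1 x hxV (q.app V.1 a)) hg)
  haveI := hπ
  exact ⟨L, π ≫ ι S, hL, by rw [Category.assoc]; exact epi_comp _ _⟩

theorem pcAt_strictlyPerfect {E : CochainComplex X.Modules ℤ} (hE : DCoh.IsStrictlyPerfect E) (m : ℤ)
    (x : X) : PCAt m (DCoh.toD X E) x :=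
  ⟨X, 𝟙 X, inferInstance, x, (rC (𝟙 X)).obj E, (RDQ (𝟙 X) E).inv, by simp,
    isStrictlyPerfect_map _ hE, Perfect.Ascent.Good.of_isIso _ _⟩

/-- Resolutions down to any degree. -/
theorem exists_approx [CompactSpace X] [QuasiSeparatedSpace X] (hX : PerfAux.HasResolutionProperty X)
    (F : CochainComplex X.Modules ℤ) (hFq : ∀ i, (F.X i).IsQuasicoherent)
    (hpc : ∀ m x, PCAt m (DCoh.toD X F) x) (b : ℤ) (hb : ∀ i, b < i → F.ExactAt i) (k : ℕ) :
    ∃ (E : CochainComplex X.Modules ℤ) (φ : E ⟶ F),
      DCoh.VanishesOutside E (b + 1 - k) b ∧ (∀ i, FlatMod.IsFinLocFree (E.X i)) ∧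
      ExactGE φ (b + 1 - k) := by
  induction k with
  | zero =>
    have hz : ∀ i, IsZero ((HomologicalComplex.single X.Modules (ComplexShape.up ℤ) 0).obj
        (kernel (𝟙 (FlatMod.freeMod X 1))) |>.X i) := fun i => by
      by_cases h : i = 0
      · subst h
        exact (isZero_kernel_of_mono _).of_iso (HomologicalComplex.singleObjXSelf _ _ _)
      · exact HomologicalComplex.isZero_single_obj_X _ _ _ _ h
    exact ⟨_, 0, fun i _ => hz i, fun i => Perfect.Stupid.isFinLocFree_isZero (hz i),
      PCoh.Resolve.exactGE_zero F hz 0 fun i hi => hb i (by omega)⟩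
  | succ k ih =>
    obtain ⟨E, φ, hv, hlf, hex⟩ := ih
    let n : ℤ := b - k
    let C := mappingCone φ
    have hCq : ∀ i, (C.X i).IsQuasicoherent := fun i => by
      haveI := hFq i
      haveI : (E.X (i + 1)).IsQuasicoherent := Modules.AffineSections.isQCoh_of_isFinLocFree (hlf _)
      haveI := QCoh.Closure.isQCoh_biprod (M := E.X (i + 1)) (N := F.X i)
      exact CohBasics.Closure.isQCoh_of_iso (M := E.X (i + 1) ⊞ F.X i)
        (HomologicalComplex.homotopyCofiber.XIsoBiprod φ i (i + 1) rfl).symm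
    haveI := CohDelta.IdealMul.HomAR.isQCoh_cycles C n hCq
    haveI := CohDelta.IdealMul.HomAR.isQCoh_homology C n hCq
    have hft : CohB1.IsFT (C.homology n) := by
      have hC : ∀ x, PCAt n (DCoh.toD X C) x := fun x =>
        pcAt₃ (DerivedCategory.mappingCone_triangle_distinguished φ)
          (pcAt_strictlyPerfect ⟨⟨_, _, hv⟩, hlf⟩ (n + 1) x) (hpc n x)
      have h := Perfect.Top.isFT_top hC fun i hi =>
        ((hex i (by omega)).isZero_homology).of_iso
          ((DerivedCategory.homologyFunctorFactors X.Modules i).app C)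
      exact @Modules.SupportOps.isFT_of_iso X _ _ ((DerivedCategory.homologyFunctorFactors X.Modules n).app C) h
    obtain ⟨L, v, hL, hv'⟩ := exists_lift hX (C.homologyπ n) hft
    obtain ⟨E', φ', ⟨e⟩, he, hex'⟩ := step n φ (fun i hi => hex i (by omega)) L v hv'
    refine ⟨E', φ', fun i hi => ?_, fun i => ?_, fun i hi => hex' i (by omega)⟩
    · exact (hv i (by omega)).of_iso (he i (by omega)).some
    · by_cases h : i = n
      · subst h
        exact TensorMod.LocFree.of_iso e.symm (TensorMod.LocFree.of_iso (biprod.isoCoprod _ _).symm (TensorMod.LocFree.isFinLocFree_biprod (hlf n) hL))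
      · exact TensorMod.LocFree.of_iso (he i h).some.symm (hlf i)

end Groth.Agent.H56.ResPerf
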