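import Groth.Agent.Lib.ResDescend36.Family
import Groth.Agent.Lib.CurveBundle.GP
import Groth.Agent.Lib.Ample.Pow
import Groth.Prelude.Def_KSix

/-!
Quotients of sums of negative powers of an ample family.
-/

set_option autoImplicit false
set_option linter.style.haveILetI false

universe u

open CategoryTheory CategoryTheory.Limits AlgebraicGeometry Opposite TopologicalSpace

namespace Groth.Agent.H56.ResPerf

open Groth.Agent.Lib Groth.Agent.Lib.Modules.StalkModule
open Groth.Agent.Lib.ResDescend36.Family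
open Groth.Agent.Lib.Ample.GG (GenAt)

variable {X : Scheme.{u}}

/-- One member of the family on its affine locus. -/
theorem exists_negPower_on [CompactSpace X] [QuasiSeparatedSpace X] {ι : Type u} {L : ι → X.Modules}
    {i : ι} (hL : PicF.IsInvertible (L i)) (n : ℕ) (F : X.Modules) (hF : Coh.IsCoh F)
    (s : Coh.structureModule X ⟶ CohB1.tensorPow (L i) (n + 1))
    (hs : IsAffineOpen (CohB1.genLocus _ s)) :
    ∃ (k : ℕ) (N : X.Modules) (q : (⨁ fun _ : Fin k => N) ⟶ F), KSix.IsNegPower L N ∧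
      ∀ x ∈ CohB1.genLocus _ s, Function.Surjective (stalkMapₗ q x) := by
  have hM := TensorMod.Invertible.isInvertible_tensorPow hL (n + 1)
  obtain ⟨n', hn', hpos⟩ := ((Ample.GG.eventually_genAt hM F hF s hs).and (Filter.eventually_ge_atTop 1)).exists
  have hP := TensorMod.Invertible.isInvertible_tensorPow hM n'
  let P := CohB1.tensorPow (CohB1.tensorPow (L i) (n + 1)) n'
  haveI := TensorMod.QCohInv.isQCoh_of_isInvertible hP
  haveI : F.IsQuasicoherent := hF.1
  haveI : SheafOfModules.IsFiniteType (R := X.ringCatSheaf) F := hF.2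
  haveI : SheafOfModules.IsFiniteType (R := X.ringCatSheaf) P :=
    (Ample.GG.isCoh_of_isInvertible hP).2
  have hcoh : Coh.IsCoh (CohB1.tensorMod F P) :=
    ⟨TensorMod.TensorQCoh.isQCoh_tensorMod _ _, TensorMod.TensorQCoh.isFiniteType_tensorMod _ _⟩
  obtain ⟨k, p, hp⟩ := exists_freeMod_on _ hcoh hs hn'
  let D := TensorMod.Dual.dual P
  let e := TensorMod.Basic.assoc F P D ≪≫ TensorMod.Basic.tensorIso (Iso.refl F)
      (TensorMod.Invertible.tensorDualIso hP) ≪≫ TensorMod.Basic.rightUnit F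
  let T := TensorMod.Basic.tensorBy D
  haveI : T.Additive := CurveBundle.GP.additive_tensorBy D
  let c : (⨁ fun _ : Fin k => D) ≅ CohB1.tensorMod (FlatMod.freeMod X k) D :=
    biproduct.mapIso (fun _ => (TensorMod.Basic.leftUnit D).symm) ≪≫
      (T.mapBiproduct (fun _ : Fin k => Coh.structureModule X)).symm ≪≫
      T.mapIso (biproduct.isoCoproduct _)
  refine ⟨k, D, c.hom ≫ TensorMod.Basic.tmap p (𝟙 D) ≫ e.hom,
    ⟨i, (n + 1) * n', by positivity, ⟨TensorMod.Basic.tensorIso (Iso.refl D) (Ample.Pow.powMul (L i) (n + 1) n').symm ≪≫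
      TensorMod.Basic.comm _ _ ≪≫ TensorMod.Invertible.tensorDualIso hP⟩⟩, fun x hx => ?_⟩
  exact stalkMapₗ_comp_surjective _ _ ((Modules.Stalk.epi_iff_stalk_surjective c.hom).1 inferInstance x)
    (stalkMapₗ_comp_surjective _ _ (surjective_tmap p D (hp x hx))
      ((Modules.Stalk.epi_iff_stalk_surjective e.hom).1 inferInstance x))

/-- An ample family resolves modules of finite type by sums of negative powers. -/
theorem exists_inAddL_epi {ι : Type u} (L : ι → X.Modules) (hL : KSix.IsAmpleFamily L) (F : X.Modules)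
    (hF : Coh.IsQCoh F) (hF' : CohB1.IsFT F) :
    ∃ (M : X.Modules) (π : M ⟶ F), KSix.InAddL L M ∧ Epi π := by
  classical
  obtain ⟨hc, hqs, hinv, hx⟩ := hL
  haveI := hc
  haveI := hqs
  choose i n s hxs hs using hx
  choose k N q hN hq using fun x => exists_negPower_on (hinv (i x)) (n x) F ⟨hF, hF'⟩ (s x) (hs x)
  obtain ⟨t, ht⟩ := isCompact_univ.elim_finite_subcover (fun x => (CohB1.genLocus _ (s x) : Set X))
    (fun x => (CohB1.genLocus _ (s x)).isOpen) fun x _ => Set.mem_iUnion.2 ⟨x, hxs x⟩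
  let J := Σ a : t, Fin (k a.1)
  let e := Fintype.equivFin J
  let N' : Fin (Fintype.card J) → X.Modules := fun j => N (e.symm j).1.1
  let π : ⨁ N' ⟶ F := biproduct.desc fun j =>
    biproduct.ι (fun _ : Fin (k (e.symm j).1.1) => N (e.symm j).1.1) (e.symm j).2 ≫ q (e.symm j).1.1
  refine ⟨⨁ N', π, ⟨_, N', fun j => hN _, ⟨Iso.refl _⟩⟩,
    (Modules.Stalk.epi_iff_stalk_surjective π).2 fun x => ?_⟩
  obtain ⟨a, ha, hxa⟩ := Set.mem_iUnion₂.1 (ht (Set.mem_univ x))
  let l : (⨁ fun _ : Fin (k a) => N a) ⟶ ⨁ N' := biproduct.desc fun j =>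
    eqToHom (by simp [N']) ≫ biproduct.ι N' (e ⟨⟨a, ha⟩, j⟩)
  have hl : l ≫ π = q a := by
    refine biproduct.hom_ext' _ _ fun j => ?_
    simp only [l, π, biproduct.ι_desc_assoc, Category.assoc, biproduct.ι_desc]
    have key : ∀ (z : J) (hz : z = ⟨⟨a, ha⟩, j⟩),
        eqToHom (show N a = N z.1.1 by rw [hz]) ≫ biproduct.ι (fun _ : Fin (k z.1.1) => N z.1.1) z.2 ≫ q z.1.1 =
          biproduct.ι (fun _ : Fin (k a) => N a) j ≫ q a := by
      rintro z rfl
      simp
    exact key _ (e.symm_apply_apply _)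
  exact surjective_of_comp l π (hl ▸ hq a x hxa)

end Groth.Agent.H56.ResPerf
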