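import Groth.Agent.H56.ResPerf.Resolve
import Groth.Agent.H56.TorPush.Base
import Groth.Agent.Lib.BettiExact.TorAmpStalk
import Groth.Agent.Lib.Perfect.FlatPerfect
import Groth.Agent.Lib.Perfect.LocFreeCoh

/-!
Strictly perfect resolutions of perfect complexes of quasi-coherent modules.
-/

set_option autoImplicit false
set_option linter.style.haveILetI false

universe u

open CategoryTheory Limits AlgebraicGeometry TopologicalSpace CochainComplex
open Groth.Agent.Lib.PCoh.Cone

attribute [local instance] HasDerivedCategory.standard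

namespace Groth.Agent.H56.ResPerf

open Groth.Agent.Lib Groth.Agent.Lib.Modules StalkModule
open Groth.Agent.Lib.Perfect.Basic Groth.Agent.Lib.Perfect.PseudoCoh Groth.Agent.Lib.Perfect.FlatPerfect
open Groth.Agent.Lib.DR Groth.Agent.Lib.DR.Basic Groth.Agent.Lib.DR.FiniteComplex
open Groth.Agent.Lib.DR.PseudoCoherent Groth.Agent.Lib.DR.BaseChange

variable {X : Scheme.{u}}

/-- A perfect complex on a quasi-compact scheme has finite tor amplitude. -/
theorem exists_torAmplitude [CompactSpace X] (F : CochainComplex X.Modules ℤ)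
    (hF : DCoh.IsPerfect (DCoh.toD X F)) : ∃ a b : ℤ, DerSch.HasTorAmplitude (𝟙 X) a b F := by
  have key : ∀ x : X, ∃ (V : X.Opens) (a b : ℤ), x ∈ V ∧ ∀ z ∈ V, DerSch.HasTorAmplitudeAt (𝟙 X) a b F z := by
    intro x
    obtain ⟨V, hx, hV⟩ := hF x
    obtain ⟨E, ⟨⟨a, b, hv⟩, hlf⟩, ⟨i⟩⟩ := hV F ⟨Iso.refl _⟩
    refine ⟨V, a, b, hx, fun z hz => TorPush.torAmpAt_unrestrict (𝟙 X) (𝟙 (V : Scheme.{u})) V.ι V.ι
      (by simp) F ⟨z, hz⟩ (BettiExact.TorAmpStalk.torAmp_of_flatAmp
        ⟨E, hv, fun k => TensorMod.FPConv.isFlat_of_isFinLocFree (hlf k), ⟨i.symm⟩⟩ _)⟩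
  choose V a b hx hV using key
  obtain ⟨t, ht⟩ := isCompact_univ.elim_finite_subcover (fun x : X => (V x : Set X)) (fun x => (V x).2)
    fun x _ => Set.mem_iUnion.2 ⟨x, hx x⟩
  obtain ⟨A, hA⟩ := (t.finite_toSet.image a).bddBelow
  obtain ⟨B, hB⟩ := (t.finite_toSet.image b).bddAbove
  refine ⟨A, B, fun z => ?_⟩
  obtain ⟨x, hxt, hzx⟩ := Set.mem_iUnion₂.1 (ht (Set.mem_univ z))
  obtain ⟨T, hT, hTf, e⟩ := hV x z hzx
  exact ⟨T, fun i hi => hT i (by
    have h1 : A ≤ a x := hA ⟨x, hxt, rfl⟩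
    have h2 : b x ≤ B := hB ⟨x, hxt, rfl⟩
    omega), hTf, e⟩

/-- Locally free near every point means locally free. -/
theorem isFinLocFree_of_openImms (M : X.Modules)
    (h : ∀ x : X, ∃ (U : Scheme.{u}) (j : U ⟶ X) (_ : IsOpenImmersion j) (y : U),
      j y = x ∧ FlatMod.IsFinLocFree (M.restrict j)) : FlatMod.IsFinLocFree M :=
  Kaehler.LocFree.isFinLocFree_of_charts M fun x => by
    obtain ⟨U, j, _, y, rfl, hlf⟩ := h x
    obtain ⟨V, n, hV, ⟨e⟩⟩ := hlf y
    exact ⟨_, V.ι ≫ j, inferInstance, n, ⟨⟨y, hV⟩, rfl⟩,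
      ⟨(Scheme.Modules.restrictFunctorComp V.ι j).app M ≪≫ e⟩⟩

/-- The cokernel cut off at the lower end of the amplitude is locally free. -/
theorem isFinLocFree_coker {E F : CochainComplex X.Modules ℤ} (φ : E ⟶ F) (hE : DCoh.IsStrictlyPerfect E)
    {a b : ℤ} (hF : DerSch.HasTorAmplitude (𝟙 X) a b F) (hex : ExactGE φ (a - 1)) :
    FlatMod.IsFinLocFree (cokernel (E.d (a - 1) a)) := by
  refine isFinLocFree_of_openImms _ fun y => ?_
  haveI : PreservesFiniteColimits (stalkModFunctor X y) :=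
    PreservesColimitsOfSize.preservesFiniteColimits _
  obtain ⟨⟨p, q, hv⟩, hlf⟩ := id hE
  let Py := ((stalkModFunctor X y).mapHomologicalComplex (ComplexShape.up ℤ)).obj E
  let αy : DerivedCategory.Q.obj Py ⟶ (SD y).obj (DCoh.toD X F) :=
    (ExactPush.mapQ (stalkModFunctor X y) E).inv ≫ (SD y).map (DerivedCategory.Q.map φ)
  have hcone : ConeLE αy (a - 2) := by
    refine (coneLE_of_isIso (ExactPush.mapQ (stalkModFunctor X y) E).inv _).comp
      (ExactPush.coneLE_map (stalkModFunctor X y) ⟨_, _, _,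
        DerivedCategory.mappingCone_triangle_distinguished φ, ?_⟩)
    exact (DerivedCategory.isLE_Q_obj_iff _ _).2 ((mappingCone φ).isLE_iff (a - 2) |>.2
      fun i hi => hex i (by omega))
  have hflat := flat_coker_of_coneLE (c := b) αy
    (fun i hi => (stalkModFunctor X y).map_isZero (hv i (Or.inr hi)))
    (fun i => TensorMod.FPConv.isFlat_of_isFinLocFree (hlf i) y) hcone
    (Bdd.of_iso ((BettiExact.TorAmpStalk.bdd_iff F a b y).1 (hF y))
      (ExactPush.mapQ (stalkModFunctor X y) F).symm)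
  let C := cokernel (E.d (a - 1) a)
  obtain ⟨V, n, hyV, -, he⟩ := Perfect.EulerChar.exists_free_terms hE y
  let R := Scheme.Modules.restrictFunctor V.ι
  haveI : PreservesColimitsOfSize.{0, 0} R :=
    (Scheme.Modules.restrictAdjunction V.ι).leftAdjoint_preservesColimits
  let e1 := (he (a - 1)).some
  let e2 := (he a).some
  let φ0 : FlatMod.freeMod (V : Scheme.{u}) (n (a - 1)) ⟶ FlatMod.freeMod (V : Scheme.{u}) (n a) :=
    e1.inv ≫ R.map (E.d (a - 1) a) ≫ e2.hom
  let eC : C.restrict V.ι ≅ cokernel φ0 :=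
    PreservesCokernel.iso R (E.d (a - 1) a) ≪≫ cokernel.mapIso _ φ0 e1 e2 (by simp [φ0])
  let yV : (V : Scheme.{u}) := ⟨y, hyV⟩
  have hfree : Module.Free ((V : Scheme.{u}).presheaf.stalk yV)
      ((C.restrict V.ι).presheaf.stalk yV) := by
    haveI : Module.Flat ((V : Scheme.{u}).presheaf.stalk yV) ((C.restrict V.ι).presheaf.stalk yV) := by
      refine isFlatAt_restrict V.ι yV ?_
      change Module.Flat (X.presheaf.stalk y) (C.presheaf.stalk y)
      haveI := hflat
      exact Module.Flat.of_linearEquiv (PreservesCokernel.iso (stalkModFunctor X y) (E.d (a - 1) a) ≪≫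
        ModuleCat.cokernelIsoRangeQuotient (Py.d (a - 1) a)).toLinearEquiv
    haveI : Module.Finite ((V : Scheme.{u}).presheaf.stalk yV)
        ((C.restrict V.ι).presheaf.stalk yV) := by
      let π := cokernel.π φ0 ≫ eC.inv
      haveI : Module.Finite ((V : Scheme.{u}).presheaf.stalk yV)
          ((FlatMod.freeMod (V : Scheme.{u}) (n a)).presheaf.stalk yV) :=
        Module.Finite.of_basis (FreeStalk.stalkBasis _ (n a) yV)
      exact Module.Finite.of_surjective (stalkMapₗ π yV)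
        ((Modules.Stalk.epi_iff_stalk_surjective π).1 (epi_comp _ _) yV)
    exact Module.free_of_flat_of_isLocalRing
  obtain ⟨W, d, hyW, ⟨eW⟩⟩ := Perfect.FreeNear.exists_free_near φ0 eC yV hfree
  exact ⟨_, W.ι ≫ V.ι, inferInstance, ⟨yV, hyW⟩, rfl,
    TensorMod.LocFree.of_iso ((Scheme.Modules.restrictFunctorComp W.ι V.ι).app C ≪≫ eW).symm
      (TensorMod.LocFree.of_rank (TensorMod.LocFree.isFinLocFree_freeMod _ d))⟩

/-- Bounded below perfect complexes of quasi-coherent modules have strictly perfect resolutions. -/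
theorem exists_strictlyPerfect_qis [CompactSpace X] [QuasiSeparatedSpace X]
    (hX : PerfAux.HasResolutionProperty X) (F : CochainComplex X.Modules ℤ)
    (hFb : ∃ a : ℤ, ∀ n : ℤ, n < a → IsZero (F.X n)) (hFq : ∀ n : ℤ, Coh.IsQCoh (F.X n))
    (hF : DCoh.IsPerfect (DCoh.toD X F)) :
    ∃ (E : CochainComplex X.Modules ℤ) (φ : E ⟶ F), DCoh.IsStrictlyPerfect E ∧ QuasiIso φ := by
  obtain ⟨A, B, hAB⟩ := exists_torAmplitude F hF
  obtain ⟨a₀, ha₀⟩ := hFb
  let a := min a₀ A
  let b := max B a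
  have hab : DerSch.HasTorAmplitude (𝟙 X) a b F := fun z => by
    obtain ⟨T, hT, hTf, e⟩ := hAB z
    exact ⟨T, fun i hi => hT i (by omega), hTf, e⟩
  have hpc : ∀ m x, PCAt m (DCoh.toD X F) x := fun m x =>
    (iff_forall m _).1 (((isPerfect_iff_pc_tor _).1 hF).1 m) x
  obtain ⟨E, φ, hv, hlf, hex⟩ := exists_approx hX F hFq hpc b
    (fun i hi => BettiExact.TorAmpStalk.exactAt_of_torAmp hab i (Or.inr hi)) (b + 2 - a).toNat
  have hn : b + 1 - ((b + 2 - a).toNat : ℤ) = a - 1 := by omega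
  rw [hn] at hv hex
  have hEp : DCoh.IsStrictlyPerfect E := ⟨⟨_, _, hv⟩, hlf⟩
  haveI : F.IsStrictlyGE a := (F.isStrictlyGE_iff a).2 fun i hi => ha₀ i (by omega)
  haveI : QuasiIso (CochainComplex.truncGEMap φ a) := by
    rw [CochainComplex.quasiIso_truncGEMap_iff]
    intro i hi
    rw [quasiIsoAt_iff_isIso_homologyMap]
    exact ((exactGE_iff φ _).1 hex).2 i (by omega)
  refine ⟨E.truncGE a, CochainComplex.truncGEMap φ a ≫ inv (F.πTruncGE a),
    ⟨⟨a, b, fun i hi => ?_⟩, fun i => ?_⟩, inferInstance⟩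
  · rcases hi with hi | hi
    · exact (E.truncGE a).isZero_of_isStrictlyGE a i hi
    · exact (hv i (Or.inr hi)).of_iso (E.truncGEXIso a i (by omega))
  · rcases lt_trichotomy i a with h | h | h
    · exact Perfect.Stupid.isFinLocFree_isZero ((E.truncGE a).isZero_of_isStrictlyGE a i h)
    · subst h
      exact TensorMod.LocFree.of_iso ((cokernelIsCokernel _).coconePointUniqueUpToIso
        (E.opcyclesIsCokernel (a - 1) a (by simp)) ≪≫ (E.truncGEXIsoOpcycles a).symm)
        (isFinLocFree_coker φ hEp hab hex)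
    · exact TensorMod.LocFree.of_iso (E.truncGEXIso a i h).symm (hlf i)

end Groth.Agent.H56.ResPerf
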