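import Groth.Agent.H56.ResPerf.Trunc
import Groth.Agent.H83.DQCohEquiv.Main
import Groth.Agent.Lib.BettiExact.QCohInc
import Groth.Agent.Lib.Perfect.QCohD
import Groth.Agent.Lib.SchColim29.PerfTensor
import Groth.Agent.S1009
import Groth.Agent.Lib.Fil.Trunc

/-!
# Strictly perfect models of perfect objects and their morphisms
-/

set_option autoImplicit false
set_option linter.style.haveILetI false
set_option linter.unusedSectionVars false

universe u

open CategoryTheory Limits AlgebraicGeometry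

attribute [local instance] HasDerivedCategory.standard

namespace Groth.Agent.H56.ResPerf.QcModel

open Groth.Agent.Lib Groth.Agent.H83.DQCohEquiv

variable (X : Scheme.{u})

instance qc_zero : ObjectProperty.ContainsZero (qcP X) :=
  inferInstanceAs (QCohCat.isQCoh X).ContainsZero
instance qc_kernels : ObjectProperty.IsClosedUnderKernels (qcP X) :=
  inferInstanceAs (QCohCat.isQCoh X).IsClosedUnderKernels
instance qc_cokernels : ObjectProperty.IsClosedUnderCokernels (qcP X) :=
  inferInstanceAs (QCohCat.isQCoh X).IsClosedUnderCokernels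
instance qc_products : ObjectProperty.IsClosedUnderFiniteProducts (qcP X) :=
  inferInstanceAs (QCohCat.isQCoh X).IsClosedUnderFiniteProducts
instance qc_lim : PreservesFiniteLimits (incl X) :=
  inferInstanceAs (PreservesFiniteLimits (QCohCat.isQCoh X).ι)
instance qc_colim : PreservesFiniteColimits (incl X) :=
  inferInstanceAs (PreservesFiniteColimits (QCohCat.isQCoh X).ι)

variable {X}

/-- The complex of `O_X`-modules of a complex of quasi-coherent modules. -/
noncomputable abbrev i₀ : CochainComplex (Qc X) ℤ ⥤ CochainComplex X.Modules ℤ :=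
  (incl X).mapHomologicalComplex (ComplexShape.up ℤ)

/-- A lift of a complex with quasi-coherent terms. -/
noncomputable def lift (F : CochainComplex X.Modules ℤ) (hF : ∀ i, Coh.IsQCoh (F.X i)) :
    CochainComplex (Qc X) ℤ where
  X i := ⟨F.X i, hF i⟩
  d i j := ObjectProperty.homMk (F.d i j)
  shape i j h := by ext1; exact F.shape i j h
  d_comp_d' i j k _ _ := by ext1; exact F.d_comp_d i j k

noncomputable def liftIso (F : CochainComplex X.Modules ℤ) (hF : ∀ i, Coh.IsQCoh (F.X i)) :
    i₀.obj (lift F hF) ≅ F :=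
  HomologicalComplex.Hom.isoOfComponents (fun _ => Iso.refl _) (fun i j _ =>
    (Category.id_comp _).trans (Category.comp_id _).symm)

theorem isQCoh_truncGE (C : CochainComplex X.Modules ℤ) (hC : ∀ i, Coh.IsQCoh (C.X i)) (a i : ℤ) :
    Coh.IsQCoh ((C.truncGE a).X i) := by
  rcases lt_trichotomy i a with h | h | h
  · exact (WayOut.Scheme.qc X).prop_of_iso (IsZero.iso (isZero_zero _)
      ((C.truncGE a).isZero_of_isStrictlyGE a i h)) (DerivedOX.RpushQCoh.qc_of_isZero (isZero_zero _))
  · subst h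
    haveI : (C.X (i - 1)).IsQuasicoherent := hC _
    haveI : (C.X i).IsQuasicoherent := hC _
    exact (WayOut.Scheme.qc X).prop_of_iso ((cokernelIsCokernel _).coconePointUniqueUpToIso
      (C.opcyclesIsCokernel (i - 1) i (by simp)) ≪≫ (C.truncGEXIsoOpcycles i).symm)
      (QCoh.Closure.isQCoh_cokernel (C.d (i - 1) i))
  · exact (WayOut.Scheme.qc X).prop_of_iso (C.truncGEXIso a i h).symm (hC i)

section

variable [CompactSpace X] [QuasiSeparatedSpace X] (hX : PerfAux.HasResolutionProperty X)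
include hX

theorem ff : (ΦX X).Full ∧ (ΦX X).Faithful ∧
    ∀ K : DCoh.D X, DCoh.IsQCohD K ↔ ∃ M, Nonempty ((ΦX X).obj M ≅ K) :=
  H83.DQCohEquiv.main X fun U V hU hV => Groth.Agent.S1009.result X hX U V hU hV

/-- Perfect objects are represented by strictly perfect complexes. -/
theorem exists_model (K : DCoh.D X) (hK : DCoh.IsPerfect K) :
    ∃ E : CochainComplex X.Modules ℤ, DCoh.IsStrictlyPerfect E ∧ Nonempty (DCoh.toD X E ≅ K) := by
  obtain ⟨-, -, hes⟩ := ff hX
  obtain ⟨M, ⟨eM⟩⟩ := (hes K).1 (Perfect.QCohD.isQCohD_of_isPerfect hK)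
  let A := DerivedCategory.Q.objPreimage M
  let C := i₀.obj A
  let eC : DCoh.toD X C ≅ K := ((incl X).mapDerivedCategoryFactors.app A).symm ≪≫
    (ΦX X).mapIso (DerivedCategory.Q.objObjPreimageIso M) ≪≫ eM
  obtain ⟨a, b, E, hEz, -, ⟨eE⟩⟩ := SchColim29.PerfTensor.flatAmp_of_isPerfect hK
  haveI : E.IsStrictlyGE a := (CochainComplex.isStrictlyGE_iff _ _).2 fun i hi => hEz i (Or.inl hi)
  haveI : (DerivedCategory.Q.obj E).IsGE a := (DerivedCategory.isGE_Q_obj_iff E a).2 inferInstance
  haveI : (DCoh.toD X C).IsGE a := DerivedCategory.TStructure.t.isGE_of_iso (eE ≪≫ eC.symm) a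
  haveI : C.IsGE a := (DerivedCategory.isGE_Q_obj_iff C a).1 inferInstance
  haveI : QuasiIso (C.πTruncGE a) := (C.quasiIso_πTruncGE_iff a).2 inferInstance
  let e : DCoh.toD X (C.truncGE a) ≅ K := (asIso (DerivedCategory.Q.map (C.πTruncGE a))).symm ≪≫ eC
  obtain ⟨G, φ, hG, hφ⟩ := exists_strictlyPerfect_qis hX (C.truncGE a)
    ⟨a, fun n hn => (C.truncGE a).isZero_of_isStrictlyGE a n hn⟩
    (isQCoh_truncGE C (fun i => (A.X i).property) a)
    (Perfect.Triangle.isPerfect_of_iso e.symm hK)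
  haveI := hφ
  exact ⟨G, hG, ⟨asIso (DerivedCategory.Q.map φ) ≪≫ e⟩⟩

theorem qc_of_strictlyPerfect {E : CochainComplex X.Modules ℤ} (hE : DCoh.IsStrictlyPerfect E) (i : ℤ) :
    Coh.IsQCoh (E.X i) :=
  Modules.AffineSections.isQCoh_of_isFinLocFree (hE.2 i)

theorem isPerfect_of_qis {A E : CochainComplex X.Modules ℤ} (hE : DCoh.IsStrictlyPerfect E)
    (s : A ⟶ E) [QuasiIso s] : DCoh.IsPerfect (DCoh.toD X A) :=
  Perfect.Triangle.isPerfect_of_iso (asIso (DerivedCategory.Q.map s)).symm
    ((Perfect.Triangle.isPerfect_iff _).2 fun x =>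
      ⟨X, 𝟙 X, inferInstance, x, (Perfect.Basic.rC (𝟙 X)).obj E, by simp,
        Perfect.Basic.isStrictlyPerfect_map _ hE, ⟨(Perfect.Basic.RDQ (𝟙 X) E)⟩⟩)

/-- Morphisms between strictly perfect complexes are roofs of strictly perfect ones. -/
theorem exists_roof (E F : CochainComplex X.Modules ℤ) (hE : DCoh.IsStrictlyPerfect E)
    (hF : DCoh.IsStrictlyPerfect F) (α : DCoh.toD X E ⟶ DCoh.toD X F) :
    ∃ (G : CochainComplex X.Modules ℤ) (g : G ⟶ E) (h : G ⟶ F), DCoh.IsStrictlyPerfect G ∧ QuasiIso g ∧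
      DerivedCategory.Q.map g ≫ α = DerivedCategory.Q.map h := by
  obtain ⟨hfull, -, -⟩ := ff hX
  haveI := hfull
  let A := lift E (qc_of_strictlyPerfect hX hE)
  let B := lift F (qc_of_strictlyPerfect hX hF)
  let fc := (incl X).mapDerivedCategoryFactors
  let eA : (ΦX X).obj (DerivedCategory.Q.obj A) ≅ DCoh.toD X E :=
    fc.app A ≪≫ DerivedCategory.Q.mapIso (liftIso E _)
  let eB : (ΦX X).obj (DerivedCategory.Q.obj B) ≅ DCoh.toD X F :=
    fc.app B ≪≫ DerivedCategory.Q.mapIso (liftIso F _)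
  obtain ⟨β, hβ⟩ := (ΦX X).map_surjective (eA.hom ≫ α ≫ eB.inv)
  obtain ⟨A', s, hs, k, rfl⟩ := DerivedCategory.right_fac β
  haveI := hs
  let s₁ : i₀.obj A' ⟶ E := i₀.map s ≫ (liftIso E _).hom
  let k₁ : i₀.obj A' ⟶ F := i₀.map k ≫ (liftIso F _).hom
  have h1 : DerivedCategory.Q.map s₁ ≫ α = DerivedCategory.Q.map k₁ := by
    have h := congrArg (fun t => (ΦX X).map (DerivedCategory.Q.map s) ≫ t) hβ
    simp only [← Functor.map_comp, IsIso.hom_inv_id_assoc] at h
    have ns := fc.hom.naturality s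
    have nk := fc.hom.naturality k
    simp only [Functor.comp_map] at ns nk
    rw [← cancel_epi ((fc.app A').hom)]
    simp only [s₁, k₁, Functor.map_comp, Iso.app_hom, Category.assoc]
    rw [← reassoc_of% ns, ← reassoc_of% nk, h]
    simp [eA, eB]
  haveI : IsIso (DerivedCategory.Q.map s₁) := by
    have ns := fc.hom.naturality s
    simp only [Functor.comp_map] at ns
    have : IsIso ((DerivedCategory.Q (C := X.Modules)).map (i₀.map s)) := by
      have h : DerivedCategory.Q.map (i₀.map s) = fc.inv.app A' ≫ (ΦX X).map (DerivedCategory.Q.map s) ≫ fc.hom.app A := by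
        rw [ns, Iso.inv_hom_id_app_assoc]
      rw [h]; infer_instance
    simp only [s₁, Functor.map_comp]; infer_instance
  haveI : QuasiIso s₁ := (DerivedCategory.isIso_Q_map_iff_quasiIso _ _).1 inferInstance
  obtain ⟨⟨a₁, b₁, hv₁⟩, -⟩ := id hE
  obtain ⟨⟨a₂, b₂, hv₂⟩, -⟩ := id hF
  let a := min a₁ a₂
  haveI : E.IsStrictlyGE a := (E.isStrictlyGE_iff a).2 fun i hi => hv₁ i (Or.inl (by omega))
  haveI : F.IsStrictlyGE a := (F.isStrictlyGE_iff a).2 fun i hi => hv₂ i (Or.inl (by omega))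
  let C := i₀.obj A'
  let s₂ : C.truncGE a ⟶ E := CochainComplex.truncGEMap s₁ a ≫ inv (E.πTruncGE a)
  let k₂ : C.truncGE a ⟶ F := CochainComplex.truncGEMap k₁ a ≫ inv (F.πTruncGE a)
  have hs₂ : C.πTruncGE a ≫ s₂ = s₁ := by simp [s₂, ← Category.assoc]
  have hk₂ : C.πTruncGE a ≫ k₂ = k₁ := by simp [k₂, ← Category.assoc]
  haveI : QuasiIso (CochainComplex.truncGEMap s₁ a) :=
    (CochainComplex.quasiIso_truncGEMap_iff _ _).2 fun i _ => inferInstance
  haveI : QuasiIso s₂ := inferInstance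
  haveI : QuasiIso (C.πTruncGE a) := by
    haveI : QuasiIso (C.πTruncGE a ≫ s₂) := by rw [hs₂]; infer_instance
    exact quasiIso_of_comp_right (C.πTruncGE a) s₂
  obtain ⟨G, φ, hG, hφ⟩ := exists_strictlyPerfect_qis hX (C.truncGE a)
    ⟨a, fun n hn => (C.truncGE a).isZero_of_isStrictlyGE a n hn⟩
    (isQCoh_truncGE C (fun i => (A'.X i).property) a) (isPerfect_of_qis hX hE s₂)
  haveI := hφ
  refine ⟨G, φ ≫ s₂, φ ≫ k₂, hG, inferInstance, ?_⟩
  refine Eq.trans (congrArg (· ≫ α) (DerivedCategory.Q.map_comp φ s₂)) ?_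
  refine Eq.trans (Category.assoc _ _ _) (Eq.trans ?_ (DerivedCategory.Q.map_comp φ k₂).symm)
  refine congrArg (DerivedCategory.Q.map φ ≫ ·) ?_
  rw [← cancel_epi (DerivedCategory.Q.map (C.πTruncGE a))]
  simp only [← Functor.map_comp_assoc, ← Functor.map_comp, hs₂, hk₂]
  exact h1

/-- A null-homotopy into a complex in degrees `≥ a` factors through the truncation. -/
noncomputable def descend (C F : CochainComplex X.Modules ℤ) (a : ℤ) [F.IsStrictlyGE a]
    [∀ i, Epi ((C.πTruncGE a).f i)] (u v : C.truncGE a ⟶ F)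
    (h : Homotopy (C.πTruncGE a ≫ u) (C.πTruncGE a ≫ v)) : Homotopy u v where
  hom i j := if hi : a < i then
      (haveI : IsIso ((C.πTruncGE a).f i) := Fil.Trunc.isIso_πTruncGE_f C a i hi
       inv ((C.πTruncGE a).f i) ≫ h.hom i j)
    else 0
  zero i j hij := by
    split
    · rw [h.zero i j hij, comp_zero]
    · rfl
  comm i := by
    have key : ∀ p q, (ComplexShape.up ℤ).Rel q p →
        (C.πTruncGE a).f p ≫ (if hi : a < p then
          (haveI : IsIso ((C.πTruncGE a).f p) := Fil.Trunc.isIso_πTruncGE_f C a p hi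
           inv ((C.πTruncGE a).f p) ≫ h.hom p q) else 0) = h.hom p q := by
      intro p q hpq
      have hpq' : q + 1 = p := hpq
      split
      · simp
      · exact (F.isZero_of_isStrictlyGE a q (by omega)).eq_of_tgt _ _
    rw [← cancel_epi ((C.πTruncGE a).f i)]
    have := h.comm i
    simp only [HomologicalComplex.comp_f] at this
    rw [Preadditive.comp_add, Preadditive.comp_add, this]
    rw [dNext_eq _ (show (ComplexShape.up ℤ).Rel i (i + 1) from rfl),
      dNext_eq _ (show (ComplexShape.up ℤ).Rel i (i + 1) from rfl),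
      prevD_eq _ (show (ComplexShape.up ℤ).Rel (i - 1) i by simp),
      prevD_eq _ (show (ComplexShape.up ℤ).Rel (i - 1) i by simp)]
    rw [HomologicalComplex.Hom.comm_assoc, key (i + 1) i rfl, ← Category.assoc ((C.πTruncGE a).f i),
      key i (i - 1) (by simp)]

end

end Groth.Agent.H56.ResPerf.QcModel
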