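import Groth.Agent.H56.ResPerf.AddL
import Groth.Agent.H56.ResPerf.QcModel
import Groth.Agent.Lib.PCoh.Infinite
import Groth.Agent.Lib.Perfect.PerfAmp
import Groth.Agent.Lib.Perfect.Coherent

/-!
# Global resolutions by sums of negative powers of an ample family
-/

set_option autoImplicit false
set_option linter.style.haveILetI false
set_option linter.unusedSectionVars false

universe u

open CategoryTheory Limits AlgebraicGeometry
open scoped ZeroObject

attribute [local instance] HasDerivedCategory.standard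

namespace Groth.Agent.H56.ResPerf.AddLRes

open Groth.Agent.Lib Groth.Agent.H83.DQCohEquiv QcModel
open Groth.Agent.Lib.Perfect.Basic Groth.Agent.Lib.Perfect.PseudoCoh Groth.Agent.Lib.PCoh.Cone

variable {X : Scheme.{u}} {ι : Type u} (L : ι → X.Modules)

/-- Quasi-coherent modules which are sums of negative powers. -/
abbrev P : ObjectProperty (Qc X) := fun M => KSix.InAddL L M.obj

instance isClosedUnderIso : (P L).IsClosedUnderIsomorphisms :=
  ⟨fun e h => AddL.inAddL_of_iso ((incl X).mapIso e) h⟩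

instance containsZero : (P L).ContainsZero :=
  ⟨0, isZero_zero _, AddL.inAddL_zero ((incl X).map_isZero (isZero_zero _))⟩

theorem hsum (A B : Qc X) (hA : P L A) (hB : P L B) : P L (A ⨯ B) :=
  haveI := preservesBinaryBiproducts_of_preservesBinaryProducts (incl X)
  AddL.inAddL_of_iso (((incl X).mapBiprod A B).symm ≪≫ (incl X).mapIso (biprod.isoProd A B))
    (AddL.inAddL_biprod hA hB)

/-- Pseudo-coherent objects have quasi-coherent cohomology. -/
theorem isQCohD_of_pc {K : DCoh.D X} (hK : ∀ m : ℤ, DCoh.IsPseudoCoherentD m K) : DCoh.IsQCohD K :=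
  fun i => Perfect.QCohD.isQCoh_of_cover fun x => by
    obtain ⟨U, j, _, y, E, α, hy, ⟨-, hlf⟩, hα⟩ := (iff_forall (i - 1) K).1 (hK (i - 1)) x
    haveI : ∀ n, (E.X n).IsQuasicoherent := fun n => TensorMod.QCohInv.isQCoh_of_isFinLocFree (hlf n)
    have h1 : (E.cycles i).IsQuasicoherent := by
      haveI := QCoh.Closure.isQCoh_kernel (E.d i ((ComplexShape.up ℤ).next i))
      exact @CohBasics.Closure.isQCoh_of_iso _ _ _
        ((E.cyclesIsKernel i _ rfl).conePointUniqueUpToIso (kernelIsKernel _)).symm ‹_›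
    have h2 : (E.homology i).IsQuasicoherent := by
      haveI := h1
      haveI := QCoh.Closure.isQCoh_cokernel (E.toCycles ((ComplexShape.up ℤ).prev i) i)
      exact @CohBasics.Closure.isQCoh_of_iso _ _ _
        ((E.homologyIsCokernel _ i rfl).coconePointUniqueUpToIso (cokernelIsCokernel _)).symm ‹_›
    haveI := h2
    haveI := hα.1 i (by omega)
    exact ⟨U, j, inferInstance, y, hy, @CohBasics.Closure.isQCoh_of_iso _ _ _
      (((DerivedCategory.homologyFunctorFactors U.Modules i).app E).symm ≪≫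
        asIso ((DerivedCategory.homologyFunctor U.Modules i).map α) ≪≫
        Perfect.Coherent.homologyIso j K i) h2⟩

variable {L} (hL : KSix.IsAmpleFamily L)
include hL

theorem isQuasiLiftable : PCoh.IsQuasiLiftable (P L) := by
  intro E F q hq hF
  haveI := hL.1
  haveI := hL.2.1
  haveI : (E.obj).IsQuasicoherent := E.property
  haveI : (F.obj).IsQuasicoherent := F.property
  haveI : Epi q.hom := inferInstanceAs (Epi ((incl X).map q))
  obtain ⟨M, v, hM, hv⟩ := exists_lift (AddL.hasResolutionProperty hL) q.hom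
    (Perfect.Coherent.isCoh_of_isFinLocFree (AddL.isFinLocFree_inAddL hF)).2
  have hMc := Perfect.Coherent.isCoh_of_isFinLocFree hM
  obtain ⟨N, π, hN, hπ⟩ := exists_inAddL_epi L hL M hMc.1 hMc.2
  have hNq : Coh.IsQCoh N :=
    Modules.AffineSections.isQCoh_of_isFinLocFree (AddL.isFinLocFree_inAddL hN)
  refine ⟨⟨N, hNq⟩, ObjectProperty.homMk (π ≫ v), hN, (incl X).epi_of_epi_map ?_⟩
  show Epi ((π ≫ v) ≫ q.hom)
  rw [Category.assoc]
  haveI := hπ
  haveI := hv
  exact epi_comp _ _

theorem good (A : CochainComplex (Qc X) ℤ) (hpc : ∀ m x, PCAt m (DCoh.toD X (i₀.obj A)) x)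
    (b : ℤ) (hb : ∀ i, b < i → A.ExactAt i) (n : ℤ) : PCoh.Resolve.Good (P L) n A := by
  haveI := hL.1
  haveI := hL.2.1
  refine ⟨⟨b, hb⟩, fun k G w _ hG hex => ?_⟩
  obtain ⟨⟨c, hc⟩, hGP⟩ := hG
  let T := Perfect.Stupid.trunc (i₀.obj G) (k + 1)
  have hT : DCoh.IsStrictlyPerfect T := ⟨⟨k + 1, c, fun i hi => by
      rcases hi with hi | hi
      · exact Perfect.Stupid.isZero_trunc _ _ i hi
      · haveI : Mono ((Perfect.Stupid.ι (i₀.obj G) (k + 1)).f i) :=
          inferInstanceAs (Mono (kernel.ι _))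
        exact IsZero.of_mono ((Perfect.Stupid.ι (i₀.obj G) (k + 1)).f i)
          ((incl X).map_isZero (hc i hi))⟩, fun i => by
      by_cases hi : k + 1 ≤ i
      · haveI := Perfect.Stupid.isIso_ι (i₀.obj G) (k + 1) i hi
        exact TensorMod.LocFree.of_iso (asIso ((Perfect.Stupid.ι (i₀.obj G) (k + 1)).f i)).symm
          (AddL.isFinLocFree_inAddL (hGP i hi))
      · exact Perfect.Stupid.isFinLocFree_isZero (Perfect.Stupid.isZero_trunc _ _ i (by omega))⟩
  have hG' : ∀ x, PCAt (k + 1) (DCoh.toD X (i₀.obj G)) x := fun x =>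
    ⟨X, 𝟙 X, inferInstance, x, (rC (𝟙 X)).obj T,
      (RDQ (𝟙 X) T).inv ≫ (RD (𝟙 X)).map (DerivedCategory.Q.map (Perfect.Stupid.ι (i₀.obj G) (k + 1))),
      by simp, isStrictlyPerfect_map _ hT,
      (Perfect.Ascent.Good.of_isIso _ _).comp (good_restrict _ (Perfect.Stupid.good_ι _ _))⟩
  let C := CochainComplex.mappingCone (i₀.map w)
  let eC : i₀.obj (CochainComplex.mappingCone w) ≅ C :=
    CochainComplex.mappingCone.mapHomologicalComplexIso w (incl X)
  let eh : ∀ i, C.homology i ≅ (incl X).obj ((CochainComplex.mappingCone w).homology i) := fun i =>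
    (HomologicalComplex.homologyFunctor X.Modules (ComplexShape.up ℤ) i).mapIso eC.symm ≪≫
      ((CochainComplex.mappingCone w).sc i).mapHomologyIso (incl X)
  let eD : ∀ i, DCoh.HD (DCoh.toD X C) i ≅ (incl X).obj ((CochainComplex.mappingCone w).homology i) :=
    fun i => (DerivedCategory.homologyFunctorFactors X.Modules i).app C ≪≫ eh i
  have hC : ∀ x, PCAt k (DCoh.toD X C) x := fun x =>
    pcAt₃ (DerivedCategory.mappingCone_triangle_distinguished (i₀.map w)) (hG' x) (hpc k x)
  have hft : CohB1.IsFT ((incl X).obj ((CochainComplex.mappingCone w).homology k)) := by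
    have h := Perfect.Top.isFT_top hC fun i hi =>
      ((incl X).map_isZero (hex i (by omega)).isZero_homology).of_iso (eD i)
    exact @Modules.SupportOps.isFT_of_iso X _ _ (eD k) h
  obtain ⟨N, π, hN, hπ⟩ := exists_inAddL_epi L hL _
    ((CochainComplex.mappingCone w).homology k).property hft
  have hNq : Coh.IsQCoh N :=
    Modules.AffineSections.isQCoh_of_isFinLocFree (AddL.isFinLocFree_inAddL hN)
  exact ⟨⟨N, hNq⟩, ObjectProperty.homMk π, hN, (incl X).epi_of_epi_map hπ⟩

/-- A resolution by sums of negative powers, ending at any bound of the cohomology. -/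
theorem exists_resolution (E : DCoh.D X) (hE : ∀ k : ℤ, DCoh.IsPseudoCoherentD k E) (b : ℤ)
    (hb : E.IsLE b) :
    ∃ F : CochainComplex X.Modules ℤ, (∀ i, b < i → IsZero (F.X i)) ∧
      (∀ i, KSix.InAddL L (F.X i)) ∧ Nonempty (DCoh.toD X F ≅ E) := by
  haveI := hL.1
  haveI := hL.2.1
  obtain ⟨-, -, hes⟩ := ff (AddL.hasResolutionProperty hL)
  obtain ⟨M, ⟨eM⟩⟩ := (hes E).1 (isQCohD_of_pc hE)
  let A := DerivedCategory.Q.objPreimage M
  let e : DCoh.toD X (i₀.obj A) ≅ E := ((incl X).mapDerivedCategoryFactors.app A).symm ≪≫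
    (ΦX X).mapIso (DerivedCategory.Q.objObjPreimageIso M) ≪≫ eM
  have hA : ∀ i, b < i → A.ExactAt i := fun i hi => by
    rw [HomologicalComplex.exactAt_iff_isZero_homology]
    refine IsZero.of_full_of_faithful_of_isZero (incl X) _ ?_
    exact ((DerivedCategory.isZero_of_isLE E b i hi).of_iso
      (((DerivedCategory.homologyFunctorFactors X.Modules i).app (i₀.obj A)).symm ≪≫
        (DerivedCategory.homologyFunctor X.Modules i).mapIso e)).of_iso
      ((A.sc i).mapHomologyIso (incl X)).symm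
  have hpc : ∀ m x, PCAt m (DCoh.toD X (i₀.obj A)) x := fun m x =>
    ((iff_forall m E).1 (hE m) x).of_iso e.symm
  obtain ⟨G, s, hG, hs, hz⟩ := PCoh.Infinite.exists_resolutionAll (hsum L) (isQuasiLiftable hL)
    (good hL A hpc b hA) (b + 1) (fun i hi => hA i (by omega))
  haveI := hs
  exact ⟨i₀.obj G, fun i hi => (incl X).map_isZero (hz i (by omega)), fun i => hG.2 i,
    ⟨asIso (DerivedCategory.Q.map (i₀.map s)) ≪≫ e⟩⟩

end Groth.Agent.H56.ResPerf.AddLRes
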