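import Groth.Agent.H56.ResPerf.Family
import Groth.Agent.Lib.TensorMod.TensorInv
import Groth.Agent.Lib.Perfect.Triangle
import Groth.Agent.Lib.Perfect.Stupid

/-!
# The additive category generated by negative powers of an ample family
-/

set_option autoImplicit false
set_option linter.style.haveILetI false
set_option linter.unusedSectionVars false

universe u

open CategoryTheory Limits AlgebraicGeometry

namespace Groth.Agent.H56.ResPerf.AddL

open Groth.Agent.Lib

variable {X : Scheme.{u}} {ι : Type u} {L : ι → X.Modules}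

theorem inAddL_of_iso {M N : X.Modules} (e : M ≅ N) (h : KSix.InAddL L M) : KSix.InAddL L N := by
  obtain ⟨k, P, hP, ⟨a⟩⟩ := h
  exact ⟨k, P, hP, ⟨e.symm ≪≫ a⟩⟩

theorem inAddL_zero {M : X.Modules} (h : IsZero M) : KSix.InAddL L M :=
  ⟨0, fun j => j.elim0, fun j => j.elim0, ⟨h.iso (by
    rw [IsZero.iff_id_eq_zero]
    exact biproduct.hom_ext' _ _ fun j => j.elim0)⟩⟩

theorem inAddL_biprod {M N : X.Modules} (hM : KSix.InAddL L M) (hN : KSix.InAddL L N) :
    KSix.InAddL L (M ⊞ N) := by
  obtain ⟨a, P, hP, ⟨e⟩⟩ := hM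
  obtain ⟨b, Q, hQ, ⟨e'⟩⟩ := hN
  let R : Fin a ⊕ Fin b → X.Modules := Sum.elim P Q
  let s : (⨁ P) ⊞ (⨁ Q) ≅ ⨁ R :=
    { hom := biprod.desc (biproduct.desc fun j => biproduct.ι R (Sum.inl j))
        (biproduct.desc fun j => biproduct.ι R (Sum.inr j))
      inv := biproduct.desc (fun j => match j with
        | Sum.inl j => biproduct.ι P j ≫ biprod.inl
        | Sum.inr j => biproduct.ι Q j ≫ biprod.inr)
      hom_inv_id := by
        apply biprod.hom_ext' <;> apply biproduct.hom_ext' <;> intro j <;> simp <;> exact biproduct.ι_desc _ _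
      inv_hom_id := by
        refine biproduct.hom_ext' _ _ ?_
        rintro (j | j) <;> simp <;> exact biproduct.ι_desc _ _ }
  refine ⟨a + b, fun j => R (finSumFinEquiv.symm j), fun j => ?_,
    ⟨biprod.mapIso e e' ≪≫ s ≪≫ (biproduct.reindex finSumFinEquiv.symm R).symm⟩⟩
  rcases h : finSumFinEquiv.symm j with i | i
  · simp only [h]
    exact hP i
  · simp only [h]
    exact hQ i

theorem isFinLocFree_negPower {M : X.Modules} (h : KSix.IsNegPower L M) :
    FlatMod.IsFinLocFree M := by
  obtain ⟨i, k, -, ⟨e⟩⟩ := h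
  exact TensorMod.TensorInv.isFinLocFree_left e

theorem isFinLocFree_biproduct : ∀ (k : ℕ) (N : Fin k → X.Modules),
    (∀ j, FlatMod.IsFinLocFree (N j)) → FlatMod.IsFinLocFree (⨁ N)
  | 0, N, _ => Perfect.Stupid.isFinLocFree_isZero (by
      rw [IsZero.iff_id_eq_zero]
      exact biproduct.hom_ext' _ _ fun j => j.elim0)
  | k + 1, N, h => by
    let Q : Fin k → X.Modules := fun j => N j.succ
    let e : N 0 ⊞ ⨁ Q ≅ ⨁ N :=
      { hom := biprod.desc (biproduct.ι N 0) (biproduct.desc fun j => biproduct.ι N j.succ)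
        inv := biproduct.desc (Fin.cases biprod.inl (fun j => biproduct.ι Q j ≫ biprod.inr))
        hom_inv_id := by
          apply biprod.hom_ext'
          · simp
          · apply biproduct.hom_ext'; intro j; simp
        inv_hom_id := by
          refine biproduct.hom_ext' _ _ fun j => ?_
          refine Fin.cases ?_ (fun i => ?_) j <;> simp [Q] }
    exact TensorMod.LocFree.of_iso e
      (Perfect.Triangle.isFinLocFree_biprod (h 0) (isFinLocFree_biproduct k Q fun j => h j.succ))

theorem isFinLocFree_inAddL {M : X.Modules} (h : KSix.InAddL L M) : FlatMod.IsFinLocFree M := by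
  obtain ⟨k, N, hN, ⟨e⟩⟩ := h
  exact TensorMod.LocFree.of_iso e.symm (isFinLocFree_biproduct k N fun j => isFinLocFree_negPower (hN j))

theorem hasResolutionProperty (hL : KSix.IsAmpleFamily L) : PerfAux.HasResolutionProperty X := by
  intro F hF hF'
  obtain ⟨M, π, hM, hπ⟩ := exists_inAddL_epi L hL F hF hF'
  exact ⟨M, π, isFinLocFree_inAddL hM, hπ⟩

end Groth.Agent.H56.ResPerf.AddL
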