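import Mathlib.CategoryTheory.Localization.Predicate

/-!
# A criterion for localization functors: every morphism is a roof
-/

set_option autoImplicit false

open CategoryTheory

namespace Groth.Agent.H56.ResPerf.Roofs

variable {C D : Type*} [Category C] [Category D] (L : C ⥤ D) (W : MorphismProperty C)
  [W.IsMultiplicative] (hinv : W.IsInvertedBy L)
  (hroof : ∀ {A B : C} (α : L.obj A ⟶ L.obj B), ∃ (G : C) (g : G ⟶ A) (f : G ⟶ B),
    W g ∧ L.map g ≫ α = L.map f)
  (heq : ∀ {A B : C} (p q : A ⟶ B), L.map p = L.map q → W.Q.map p = W.Q.map q)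

/-- Morphisms of the localization represented by a roof. -/
def IsRoof {A B : C} (φ : W.Q.obj A ⟶ W.Q.obj B) : Prop :=
  ∃ (G : C) (g : G ⟶ A) (f : G ⟶ B), W g ∧ W.Q.map g ≫ φ = W.Q.map f

include hinv hroof heq

theorem isRoof_comp {A B B' : C} {φ : W.Q.obj A ⟶ W.Q.obj B}
    {ψ : W.Q.obj B ⟶ W.Q.obj B'} (hφ : IsRoof W φ) (hψ : IsRoof W ψ) : IsRoof W (φ ≫ ψ) := by
  obtain ⟨G, g, f, hg, e⟩ := hφ
  obtain ⟨G', g', f', hg', e'⟩ := hψ
  haveI := hinv _ hg'
  obtain ⟨H, k, l, hk, ek⟩ := hroof (L.map f ≫ inv (L.map g'))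
  have hQ : W.Q.map (k ≫ f) = W.Q.map (l ≫ g') := heq _ _ (by
    rw [L.map_comp, L.map_comp, ← ek]; simp)
  refine ⟨H, k ≫ g, l ≫ f', W.comp_mem _ _ hk hg, ?_⟩
  rw [Functor.map_comp, Category.assoc, reassoc_of% e, ← Functor.map_comp_assoc, hQ,
    Functor.map_comp, Category.assoc, e', Functor.map_comp]

theorem isRoof_all {A B : C} (φ : W.Q.obj A ⟶ W.Q.obj B) : IsRoof W φ := by
  let P : MorphismProperty W.Localization := fun M N φ =>
    ∀ A B (hA : W.Q.obj A = M) (hB : W.Q.obj B = N),
      IsRoof W (eqToHom hA ≫ φ ≫ eqToHom hB.symm)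
  haveI : P.IsStableUnderComposition := ⟨fun {M N K} f g hf hg A B hA hB => by
    obtain ⟨Y, hY⟩ := (Localization.Construction.objEquiv W).surjective N
    have := isRoof_comp L W hinv hroof heq (hf A Y hA hY) (hg Y B hY hB)
    simpa using this⟩
  have hP : P = ⊤ := Localization.Construction.morphismProperty_eq_top P
    (fun X Y f A B hA hB => by
      obtain rfl := (Localization.Construction.objEquiv W).injective hA
      obtain rfl := (Localization.Construction.objEquiv W).injective hB
      refine ⟨A, 𝟙 A, f, W.id_mem A, ?_⟩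
      simp)
    (fun X Y w hw A B hA hB => by
      obtain rfl := (Localization.Construction.objEquiv W).injective hA
      obtain rfl := (Localization.Construction.objEquiv W).injective hB
      refine ⟨B, w, 𝟙 B, hw, ?_⟩
      simp only [eqToHom_refl, Category.id_comp, Category.comp_id, Functor.map_id]
      exact (Localization.Construction.wIso w hw).hom_inv_id)
  have := hP ▸ MorphismProperty.top_apply φ
  simpa using (show P φ from this) A B rfl rfl

theorem isLocalization [L.EssSurj] : L.IsLocalization W := by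
  refine { inverts := hinv, isEquivalence := ?_ }
  let F := Localization.Construction.lift L hinv
  have hF : ∀ {A B : C} (f : A ⟶ B), F.map (W.Q.map f) = L.map f := fun {A B} f => by
    exact (Functor.congr_hom (Localization.Construction.fac L hinv) f).trans
      ((Category.id_comp _).trans (Category.comp_id _))
  change F.IsEquivalence
  haveI : F.Faithful := ⟨fun {M N} φ ψ hφψ => by
    obtain ⟨A, hA⟩ : ∃ A, W.Q.obj A = M := (Localization.Construction.objEquiv W).surjective M
    obtain ⟨B, hB⟩ : ∃ B, W.Q.obj B = N := (Localization.Construction.objEquiv W).surjective N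
    subst hA hB
    obtain ⟨G, g, f, hg, e⟩ := isRoof_all L W hinv hroof heq φ
    obtain ⟨G', g', f', hg', e'⟩ := isRoof_all L W hinv hroof heq ψ
    haveI := hinv _ hg'
    haveI : IsIso (W.Q.map g) := Localization.inverts W.Q W g hg
    obtain ⟨H, k, l, hk, ek⟩ := hroof (L.map g ≫ inv (L.map g'))
    haveI : IsIso (W.Q.map k) := Localization.inverts W.Q W k hk
    have hQ : W.Q.map (k ≫ g) = W.Q.map (l ≫ g') := heq _ _ (by
      rw [L.map_comp, L.map_comp, ← ek]; simp)
    have eF : L.map g ≫ F.map φ = L.map f :=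
      (congrArg (fun x => x ≫ F.map φ) (hF g).symm).trans
        (((F.map_comp _ _).symm.trans (congrArg F.map e)).trans (hF f))
    have eF' : L.map g' ≫ F.map ψ = L.map f' :=
      (congrArg (fun x => x ≫ F.map ψ) (hF g').symm).trans
        (((F.map_comp _ _).symm.trans (congrArg F.map e')).trans (hF f'))
    have hL : L.map (k ≫ f) = L.map (l ≫ f') := by
      rw [L.map_comp, L.map_comp, ← ek, Category.assoc, Category.assoc, ← eF, ← eF', hφψ]
      exact (congrArg (L.map k ≫ L.map g ≫ ·) (IsIso.inv_hom_id_assoc (L.map g') _)).symm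
    rw [← cancel_epi (W.Q.map k ≫ W.Q.map g)]
    calc (W.Q.map k ≫ W.Q.map g) ≫ φ = W.Q.map (k ≫ f) := by
          rw [Category.assoc, e, W.Q.map_comp]
      _ = W.Q.map (l ≫ f') := heq _ _ hL
      _ = W.Q.map (l ≫ g') ≫ ψ := by rw [W.Q.map_comp, W.Q.map_comp, Category.assoc, e']
      _ = (W.Q.map k ≫ W.Q.map g) ≫ ψ := by rw [← hQ, W.Q.map_comp]⟩
  haveI : F.Full := ⟨fun {M N} α => by
    obtain ⟨A, hA⟩ : ∃ A, W.Q.obj A = M := (Localization.Construction.objEquiv W).surjective M
    obtain ⟨B, hB⟩ : ∃ B, W.Q.obj B = N := (Localization.Construction.objEquiv W).surjective N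
    subst hA hB
    obtain ⟨G, g, f, hg, e⟩ := hroof (A := A) (B := B) α
    haveI : IsIso (W.Q.map g) := Localization.inverts W.Q W g hg
    haveI := hinv _ hg
    refine ⟨inv (W.Q.map g) ≫ W.Q.map f, ?_⟩
    have : L.map g ≫ F.map (inv (W.Q.map g) ≫ W.Q.map f) = L.map f :=
      (congrArg (fun x => x ≫ F.map (inv (W.Q.map g) ≫ W.Q.map f)) (hF g).symm).trans
        (((F.map_comp _ _).symm.trans
          (congrArg F.map (IsIso.hom_inv_id_assoc _ _))).trans (hF f))
    exact (cancel_epi (L.map g)).1 (this.trans e.symm)⟩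
  haveI : F.EssSurj := ⟨fun K => ⟨W.Q.obj (L.objPreimage K), ⟨L.objObjPreimageIso K⟩⟩⟩
  exact {}

end Groth.Agent.H56.ResPerf.Roofs
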