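import Groth.Agent.H56.ResPerf.QcHom
import Groth.Agent.Lib.Perfect.Triangle
import Groth.Agent.H56.ResPerf.Roofs

/-!
# Perfect objects as a localization of strictly perfect complexes
-/

set_option autoImplicit false
set_option linter.style.haveILetI false
set_option linter.unusedSectionVars false

universe u

open CategoryTheory Limits AlgebraicGeometry

attribute [local instance] HasDerivedCategory.standard

namespace Groth.Agent.H56.ResPerf.Localize

open Groth.Agent.Lib

variable (X : Scheme.{u})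

abbrev SP : ObjectProperty (CochainComplex X.Modules ℤ) := fun E => DCoh.IsStrictlyPerfect E

abbrev W : MorphismProperty (SP X).FullSubcategory :=
  (HomologicalComplex.quasiIso X.Modules (ComplexShape.up ℤ)).inverseImage (SP X).ι

variable {X}

theorem isSP_biprod {K L : CochainComplex X.Modules ℤ} (hK : DCoh.IsStrictlyPerfect K)
    (hL : DCoh.IsStrictlyPerfect L) : DCoh.IsStrictlyPerfect (K ⊞ L) := by
  obtain ⟨⟨a, b, h⟩, hlf⟩ := hK
  obtain ⟨⟨a', b', h'⟩, hlf'⟩ := hL
  refine ⟨⟨min a a', max b b', fun i hi => ?_⟩, fun i => ?_⟩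
  · refine IsZero.of_iso ?_ (HomologicalComplex.biprodXIso K L i)
    exact (biprod_isZero_iff _ _).2 ⟨h _ (by omega), h' _ (by omega)⟩
  · exact TensorMod.LocFree.of_iso (HomologicalComplex.biprodXIso K L i).symm
      (Perfect.Triangle.isFinLocFree_biprod (hlf _) (hlf' _))

/-- Homotopic maps agree in any functor inverting the quasi-isomorphisms. -/
theorem map_eq_of_homotopy {D : Type*} [Category D] (F : (SP X).FullSubcategory ⥤ D)
    (hF : (W X).IsInvertedBy F) {A B : (SP X).FullSubcategory} (f g : A ⟶ B)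
    (H : Homotopy f.hom g.hom) : F.map f = F.map g := by
  let Cy : (SP X).FullSubcategory := ⟨A.obj.cylinder,
    Perfect.Triangle.isStrictlyPerfect_mappingCone A.property (isSP_biprod A.property A.property) _⟩
  let p : Cy ⟶ A := ObjectProperty.homMk (HomologicalComplex.cylinder.π A.obj)
  let i₀ : A ⟶ Cy := ObjectProperty.homMk (HomologicalComplex.cylinder.ι₀ A.obj)
  let i₁ : A ⟶ Cy := ObjectProperty.homMk (HomologicalComplex.cylinder.ι₁ A.obj)
  let d : Cy ⟶ B := ObjectProperty.homMk (HomologicalComplex.cylinder.desc _ _ H)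
  have hp : W X p :=
    (HomologicalComplex.mem_quasiIso_iff _).2
      (inferInstanceAs (QuasiIso (HomologicalComplex.cylinder.homotopyEquiv A.obj
        (fun j => ⟨j - 1, by simp⟩)).hom))
  haveI := hF _ hp
  have h0 : F.map i₀ = F.map i₁ := by
    rw [← cancel_mono (F.map p), ← F.map_comp, ← F.map_comp]
    exact congrArg F.map (ObjectProperty.hom_ext _
      ((HomologicalComplex.cylinder.ι₀_π A.obj).trans
        (HomologicalComplex.cylinder.ι₁_π A.obj).symm))
  have e0 : i₀ ≫ d = f := ObjectProperty.hom_ext _ (HomologicalComplex.cylinder.ι₀_desc _ _ H)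
  have e1 : i₁ ≫ d = g := ObjectProperty.hom_ext _ (HomologicalComplex.cylinder.ι₁_desc _ _ H)
  rw [← e0, ← e1, F.map_comp, F.map_comp, h0]

variable [CompactSpace X] [QuasiSeparatedSpace X] (hX : PerfAux.HasResolutionProperty X)
  (h : ∀ E : (SP X).FullSubcategory, DCoh.IsPerfect (((SP X).ι ⋙ DerivedCategory.Q).obj E))

noncomputable abbrev L : (SP X).FullSubcategory ⥤ ObjectProperty.FullSubcategory (fun K : DCoh.D X => DCoh.IsPerfect K) :=
  ObjectProperty.lift (fun K : DCoh.D X => DCoh.IsPerfect K) ((SP X).ι ⋙ DerivedCategory.Q) h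

theorem inverts : (W X).IsInvertedBy (L h) := by
  intro A B f hf
  haveI : QuasiIso f.hom := (HomologicalComplex.mem_quasiIso_iff _).1 hf
  haveI : IsIso ((ObjectProperty.ι _).map ((L h).map f)) :=
    inferInstanceAs (IsIso (DerivedCategory.Q.map f.hom))
  exact isIso_of_reflects_iso _ (ObjectProperty.ι _)

include hX

theorem Q_eq {A B : (SP X).FullSubcategory} (p q : A ⟶ B)
    (hpq : (L h).map p = (L h).map q) : (W X).Q.map p = (W X).Q.map q := by
  obtain ⟨G, γ, hG, hγ, ⟨H⟩⟩ := QcHom.exists_homotopy hX A.obj B.obj A.property B.property p.hom q.hom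
    (congrArg (fun φ => φ.hom) hpq)
  let γ' : (⟨G, hG⟩ : (SP X).FullSubcategory) ⟶ A := ObjectProperty.homMk γ
  haveI : IsIso ((W X).Q.map γ') :=
    Localization.inverts (W X).Q (W X) γ' ((HomologicalComplex.mem_quasiIso_iff _).2 hγ)
  rw [← cancel_epi ((W X).Q.map γ'), ← Functor.map_comp, ← Functor.map_comp]
  exact map_eq_of_homotopy _ (Localization.inverts (W X).Q (W X)) _ _ H

theorem roof {A B : (SP X).FullSubcategory} (α : (L h).obj A ⟶ (L h).obj B) :
    ∃ (G : (SP X).FullSubcategory) (g : G ⟶ A) (f : G ⟶ B), W X g ∧ (L h).map g ≫ α = (L h).map f := by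
  obtain ⟨G, g, f, hG, hg, e⟩ := QcModel.exists_roof hX A.obj B.obj A.property B.property α.hom
  exact ⟨⟨G, hG⟩, ObjectProperty.homMk g, ObjectProperty.homMk f,
    (HomologicalComplex.mem_quasiIso_iff _).2 hg, ObjectProperty.hom_ext _ e⟩

theorem isLocalization : (L h).IsLocalization (W X) := by
  haveI : (L h).EssSurj := ⟨fun K => by
    obtain ⟨E, hE, ⟨e⟩⟩ := QcModel.exists_model hX K.obj K.property
    exact ⟨⟨E, hE⟩, ⟨(ObjectProperty.fullyFaithfulι _).preimageIso e⟩⟩⟩
  exact Roofs.isLocalization (L h) (W X) (inverts h) (fun α => roof hX h α)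
    (fun p q => Q_eq hX h p q)

end Groth.Agent.H56.ResPerf.Localize
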