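import Groth.Agent.H56.ResPerf.QcModel

/-!
# Homotopies between maps of strictly perfect complexes equal in the derived category
-/

set_option autoImplicit false
set_option linter.style.haveILetI false
set_option linter.unusedSectionVars false

universe u

open CategoryTheory Limits AlgebraicGeometry

attribute [local instance] HasDerivedCategory.standard

namespace Groth.Agent.H56.ResPerf.QcHom

open Groth.Agent.Lib Groth.Agent.H83.DQCohEquiv QcModel

variable {X : Scheme.{u}} [CompactSpace X] [QuasiSeparatedSpace X] (hX : PerfAux.HasResolutionProperty X)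
include hX

/-- Maps equal in the derived category are homotopic after a strictly perfect resolution. -/
theorem exists_homotopy (E F : CochainComplex X.Modules ℤ) (hE : DCoh.IsStrictlyPerfect E)
    (hF : DCoh.IsStrictlyPerfect F) (α β : E ⟶ F)
    (hαβ : DerivedCategory.Q.map α = DerivedCategory.Q.map β) :
    ∃ (G : CochainComplex X.Modules ℤ) (γ : G ⟶ E), DCoh.IsStrictlyPerfect G ∧ QuasiIso γ ∧
      Nonempty (Homotopy (γ ≫ α) (γ ≫ β)) := by
  obtain ⟨-, hfaith, -⟩ := ff hX
  haveI := hfaith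
  let A := QcModel.lift E (qc_of_strictlyPerfect hX hE)
  let B := QcModel.lift F (qc_of_strictlyPerfect hX hF)
  let α' : A ⟶ B :=
    { f := fun i => ObjectProperty.homMk (α.f i)
      comm' := fun i j _ => ObjectProperty.hom_ext _ (α.comm i j) }
  let β' : A ⟶ B :=
    { f := fun i => ObjectProperty.homMk (β.f i)
      comm' := fun i j _ => ObjectProperty.hom_ext _ (β.comm i j) }
  let fc := (incl X).mapDerivedCategoryFactors
  have hα : i₀.map α' = (liftIso E _).hom ≫ α ≫ (liftIso F (qc_of_strictlyPerfect hX hF)).inv :=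
    HomologicalComplex.hom_ext _ _ fun i => (by simp [α', liftIso]; rfl)
  have hβ : i₀.map β' = (liftIso E _).hom ≫ β ≫ (liftIso F (qc_of_strictlyPerfect hX hF)).inv :=
    HomologicalComplex.hom_ext _ _ fun i => (by simp [β', liftIso]; rfl)
  have hQ : DerivedCategory.Q.map α' = DerivedCategory.Q.map β' := by
    apply (ΦX X).map_injective
    have na := fc.hom.naturality α'
    have nb := fc.hom.naturality β'
    simp only [Functor.comp_map] at na nb
    rw [← cancel_mono (fc.hom.app B), na, nb, hα, hβ]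
    simp [hαβ]
  let q := DerivedCategory.quotientCompQhIso (Qc X)
  have hQh : DerivedCategory.Qh.map ((HomotopyCategory.quotient _ _).map α') =
      DerivedCategory.Qh.map ((HomotopyCategory.quotient _ _).map β') := by
    have ha := q.hom.naturality α'
    have hb := q.hom.naturality β'
    simp only [Functor.comp_map] at ha hb
    rw [← cancel_mono (q.hom.app B), ha, hb, hQ]
  obtain ⟨Z, t, ht, htt⟩ := (MorphismProperty.map_eq_iff_precomp DerivedCategory.Qh
    (HomotopyCategory.quasiIso (Qc X) (ComplexShape.up ℤ)) _ _).1 hQh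
  obtain ⟨A', rfl⟩ := HomotopyCategory.quotient_obj_surjective Z
  obtain ⟨s, rfl⟩ := (HomotopyCategory.quotient _ _).map_surjective t
  rw [← Functor.map_comp, ← Functor.map_comp] at htt
  let H := HomotopyCategory.homotopyOfEq _ _ htt
  haveI : QuasiIso s := by
    rwa [HomotopyCategory.quotient_map_mem_quasiIso_iff] at ht
  let C := i₀.obj A'
  let s₁ : C ⟶ E := i₀.map s ≫ (liftIso E _).hom
  haveI : QuasiIso s₁ := inferInstance
  obtain ⟨⟨a₁, b₁, hv₁⟩, -⟩ := id hE
  obtain ⟨⟨a₂, b₂, hv₂⟩, -⟩ := id hF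
  let a := min a₁ a₂
  haveI : E.IsStrictlyGE a := (E.isStrictlyGE_iff a).2 fun i hi => hv₁ i (Or.inl (by omega))
  haveI : F.IsStrictlyGE a := (F.isStrictlyGE_iff a).2 fun i hi => hv₂ i (Or.inl (by omega))
  let s₂ : C.truncGE a ⟶ E := CochainComplex.truncGEMap s₁ a ≫ inv (E.πTruncGE a)
  have hs₂ : C.πTruncGE a ≫ s₂ = s₁ := by simp [s₂, ← Category.assoc]
  haveI : QuasiIso (CochainComplex.truncGEMap s₁ a) :=
    (CochainComplex.quasiIso_truncGEMap_iff _ _).2 fun i _ => inferInstance
  haveI : QuasiIso s₂ := inferInstance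
  have e1 : i₀.map (s ≫ α') ≫ (liftIso F (qc_of_strictlyPerfect hX hF)).hom = C.πTruncGE a ≫ s₂ ≫ α := by
    rw [Functor.map_comp, hα, reassoc_of% hs₂]; simp [s₁]
  have e2 : i₀.map (s ≫ β') ≫ (liftIso F (qc_of_strictlyPerfect hX hF)).hom = C.πTruncGE a ≫ s₂ ≫ β := by
    rw [Functor.map_comp, hβ, reassoc_of% hs₂]; simp [s₁]
  let H₁ : Homotopy (C.πTruncGE a ≫ s₂ ≫ α) (C.πTruncGE a ≫ s₂ ≫ β) :=
    (Homotopy.ofEq e1.symm).trans ((((incl X).mapHomotopy H).compRight _).trans (Homotopy.ofEq e2))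
  haveI : ∀ i, Epi ((C.πTruncGE a).f i) := fun i =>
    inferInstanceAs (Epi ((HomologicalComplex.πTruncGE C (ComplexShape.embeddingUpIntGE a)).f i))
  let H₂ := descend C F a (s₂ ≫ α) (s₂ ≫ β) H₁
  obtain ⟨G, φ, hG, hφ⟩ := exists_strictlyPerfect_qis hX (C.truncGE a)
    ⟨a, fun n hn => (C.truncGE a).isZero_of_isStrictlyGE a n hn⟩
    (isQCoh_truncGE C (fun i => (A'.X i).property) a) (isPerfect_of_qis hX hE s₂)
  haveI := hφ
  exact ⟨G, φ ≫ s₂, hG, inferInstance,
    ⟨(Homotopy.ofEq (Category.assoc _ _ _)).trans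
      ((H₂.compLeft φ).trans (Homotopy.ofEq (Category.assoc _ _ _).symm))⟩⟩

end Groth.Agent.H56.ResPerf.QcHom
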