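import Groth.Agent.Lib.PCoh.Resolve

/-!
One step of a resolution with a given lift of the next homology of the cone.
-/

set_option autoImplicit false
set_option linter.style.haveILetI false

open CategoryTheory CategoryTheory.Limits CochainComplex
open Groth.Agent.Lib.PCoh.Cone Groth.Agent.Lib.PCoh.Ext Groth.Agent.Lib.PCoh.Resolve

namespace Groth.Agent.H56.ResPerf

universe v u

variable {C : Type u} [Category.{v} C] [Abelian C] {E F : CochainComplex C ℤ}

/-- Kill `H^n` of the cone by one object mapping onto it through the cycles. -/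
theorem step (n : ℤ) (u : E ⟶ F) (h : ExactGE u (n + 1)) (L : C)
    (v₀ : L ⟶ (mappingCone u).cycles n) (hv₀ : Epi (v₀ ≫ (mappingCone u).homologyπ n)) :
    ∃ (E' : CochainComplex C ℤ) (u' : E' ⟶ F), Nonempty (E'.X n ≅ E.X n ⊞ L) ∧
      (∀ i, i ≠ n → Nonempty (E'.X i ≅ E.X i)) ∧ ExactGE u' n := by
  let c : L ⟶ (mappingCone u).X n := v₀ ≫ (mappingCone u).iCycles n
  have hc : ∀ j, c ≫ (mappingCone u).d n j = 0 := fun j => by simp [c]
  let x : (HomologicalComplex.single C (ComplexShape.up ℤ) n).obj L ⟶ mappingCone u :=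
    HomologicalComplex.mkHomFromSingle c (fun i _ => hc i)
  let X := ExtData.ofHom x
  have hz : ∀ i, i ≠ n → IsZero (((HomologicalComplex.single C (ComplexShape.up ℤ) n).obj L).X i) :=
    fun i hi => HomologicalComplex.isZero_single_obj_X _ _ _ _ hi
  let eL := HomologicalComplex.singleObjXSelf (ComplexShape.up ℤ) n L
  refine ⟨X.cx, X.desc, ⟨biprod.mapIso (Iso.refl _) eL⟩, fun i hi => ?_, ?_⟩
  · haveI := X.isIso_incl_f i (hz i hi)
    exact ⟨(asIso (X.incl.f i)).symm⟩
  · intro i hi
    rcases hi.lt_or_eq with hi | rfl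
    · exact X.exactAt_desc_of_isZero i (hz _ (by omega)) (h i (by omega))
    · have hm : Mono (HomologicalComplex.homologyMap X.toCone (n + 1)) :=
        ⟨fun _ _ _ => ((HomologicalComplex.ExactAt.of_isZero (hz (n + 1) (by omega))).isZero_homology).eq_of_tgt _ _⟩
      refine X.exactAt_desc (n - 1) n (by omega) ?_ hm
      rw [toCone_ofHom]
      let Q := (HomologicalComplex.single C (ComplexShape.up ℤ) n).obj L
      let m : L ⟶ Q.homology n := Q.liftCycles eL.inv (n + 1) (by simp)
        (((hz (n + 1) (by omega))).eq_of_tgt _ _) ≫ Q.homologyπ n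
      have : m ≫ HomologicalComplex.homologyMap x n = v₀ ≫ (mappingCone u).homologyπ n := by
        simp only [m, Category.assoc, HomologicalComplex.homologyπ_naturality]
        rw [← Category.assoc, HomologicalComplex.liftCycles_comp_cyclesMap]
        congr 1
        rw [← cancel_mono ((mappingCone u).iCycles n)]
        simp [x, c, eL]
      exact @epi_of_epi_fac _ _ _ _ _ _ _ _ hv₀ this

end Groth.Agent.H56.ResPerf
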